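import Mathlib
import Cfsg.Agent.H202.T.Defs
import Cfsg.Agent.H903.SylSemi
import Cfsg.Prelude.Def_Classical

/-!
# S3469 (`PSp₈(7^m)` is determined by its element orders): interface (helper214)

* `NormZero p G V` : `1 + u + ⋯ + u ^ (p - 1) = 0` on `V` for all elements `u` of order `p`;
* `PMod p G K V` : `V` is a chief factor of `G` below the normal `p`-subgroup `K`, as a module for `G ⧸ K`;
* `Up8 q G`, `Spec8 q G` : what is used of the spectrum of `PSp₈(q)`, `q` a power of 7;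
* `SpFrame F n M`, `OFrame F Q M` : the almost simple group `M` as a group of semisimilitudes modulo scalars;
* `NAStmt`, `NBStmt`, `NCStmt` : the statements on modules of `Ω₅(q)`, `PSp₄(q)` on which elements of order 7 have
  norm zero.
-/

set_option autoImplicit false

universe u v w

namespace Cfsg.Agent.H214.S69

open Cfsg.Agent.H903.SylSemi

/-- All elements of order `p` have norm zero. -/
def NormZero (p : ℕ) (G V : Type*) [Group G] [AddCommGroup V] [DistribMulAction G V] : Prop :=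
  ∀ u : G, orderOf u = p → ∀ v : V, ∑ i ∈ Finset.range p, u ^ i • v = 0

/-- `V` is a chief factor of `G` inside the normal `p`-subgroup `K`, regarded as a module for `G ⧸ K`. -/
structure PMod (p : ℕ) (G : Type u) [Group G] (K : Subgroup G) [K.Normal] (V : Type v) [AddCommGroup V]
    [DistribMulAction (G ⧸ K) V] : Prop where
  prime : p.Prime
  finite : Finite V
  nontrivial : Nontrivial V
  exp : ∀ v : V, p • v = 0
  irr : ∀ W : AddSubgroup V, (∀ g : G ⧸ K, ∀ w ∈ W, g • w ∈ W) → W = ⊥ ∨ W = ⊤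
  /-- a `p'`-element with a nonzero fixed vector -/
  fix : ∀ y : G ⧸ K, ¬ p ∣ orderOf y → ∀ v : V, v ≠ 0 → y • v = v → ∃ x : G, orderOf x = p * orderOf y
  /-- a `p'`-element `y` and an element `u` of order `p` of its centralizer with nonzero norm on the fixed vectors -/
  nrm : ∀ y u : G ⧸ K, y * u = u * y → ¬ p ∣ orderOf y → orderOf u = p → ∀ v : V, y • v = v →
    ∑ i ∈ Finset.range p, u ^ i • v ≠ 0 → ∃ x : G, orderOf x = p ^ 2 * orderOf y

/-- Upper bounds for the element orders (they are inherited by sections), `q` a power of 7. -/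
structure Up8 (q : ℕ) (G : Type*) [Group G] : Prop where
  pow : ∃ f, 1 ≤ f ∧ q = 7 ^ f
  up : ∀ x : G, H202.T.InL 7 q (orderOf x)
  no98 : ∀ x : G, orderOf x ≠ 98

/-- What is used of the element orders of a group isospectral to `PSp₈(q)`, `q` a power of 7. -/
structure Spec8 (q : ℕ) (G : Type*) [Group G] : Prop extends Up8 q G where
  mem_minus : ∃ x : G, orderOf x = 7 * (q ^ 3 - 1)
  mem_plus : ∃ x : G, orderOf x = 7 * (q ^ 3 + 1)

/-- `M` is a group of semisimilitudes of the symplectic form modulo scalars, containing the isometries. -/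
structure SpFrame (F : Type*) [Field F] (n : ℕ) (M : Type*) [Group M] where
  H : Subgroup (Equiv.Perm (Fin n ⊕ Fin n → F))
  semi : ∀ y ∈ H, SemiSp F n y
  isom : ∀ y, IsSpMap F n y → y ∈ H
  scal_mem : ∀ a : Fˣ, scal F (Fin n ⊕ Fin n → F) a ∈ H
  Φ : ↥H →* M
  surj : Function.Surjective Φ
  ker : ∀ y : ↥H, Φ y = 1 ↔ ∃ a : Fˣ, (y : Equiv.Perm (Fin n ⊕ Fin n → F)) = scal F (Fin n ⊕ Fin n → F) a

/-- `M` is a group of semisimilitudes of the quadratic form `Q` modulo scalars, containing `Ω(Q)`. -/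
structure OFrame (F : Type*) [Field F] {ι : Type} [Fintype ι] [DecidableEq ι] (Q : (ι → F) → F) (M : Type*)
    [Group M] where
  H : Subgroup (Equiv.Perm (ι → F))
  semi : ∀ y ∈ H, SemiO F Q y
  omega : ∀ y, IsOmegaMap F Q y → y ∈ H
  scal_mem : ∀ a : Fˣ, scal F (ι → F) a ∈ H
  Φ : ↥H →* M
  surj : Function.Surjective Φ
  ker : ∀ y : ↥H, Φ y = 1 ↔ ∃ a : Fˣ, (y : Equiv.Perm (ι → F)) = scal F (ι → F) a

/-- The binary part of a form of minus type is anisotropic. -/
def Aniso {F : Type*} [Field F] (a b : F) : Prop :=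
  ∀ z₁ z₂ : F, z₁ ^ 2 + a * z₁ * z₂ + b * z₂ ^ 2 = 0 → z₁ = 0 ∧ z₂ = 0

/-- `Ω₅(F)` as a group of matrices. -/
abbrev Om5 (F : Type*) [Field F] := ↥(Cfsg.Omega F (Cfsg.quadFormOdd 2 F))

/-- the matrix of an element of `Ω₅(F)` -/
abbrev Om5.mat {F : Type*} [Field F] (s : Om5 F) : Matrix (Unit ⊕ (Fin 2 ⊕ Fin 2)) (Unit ⊕ (Fin 2 ⊕ Fin 2)) F :=
  ((s : ↥(Cfsg.isometryGroup F (Cfsg.quadFormOdd 2 F))) :
    Matrix.GeneralLinearGroup (Unit ⊕ (Fin 2 ⊕ Fin 2)) F).val

/-- Statement: a `7'`-element of `PSp₄(7^m)` fixes a nonzero vector of every nonzero module with norm zero. -/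
def NCStmt (F : Type*) [Field F] : Prop :=
  ∀ (W : Type w) [AddCommGroup W] [Finite W] [Nontrivial W] [DistribMulAction (PSp 2 F) W],
    (∀ x : W, 7 • x = 0) → NormZero 7 (PSp 2 F) W →
    ∀ h : PSp 2 F, ¬ 7 ∣ orderOf h → ∃ x : W, x ≠ 0 ∧ h • x = x

/-- Statement: a nontrivial sign character of a `7'`-subgroup `H` of `Ω₅(7^m)` which does not occur in the natural module
does not occur in a module with norm zero. -/
def NAStmt (F : Type*) [Field F] : Prop :=
  ∀ (W : Type w) [AddCommGroup W] [Finite W] [DistribMulAction (Om5 F) W],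
    (∀ x : W, 7 • x = 0) → NormZero 7 (Om5 F) W →
    ∀ (H : Subgroup (Om5 F)) (χ : ↥H →* ℤˣ), ¬ 7 ∣ Nat.card ↥H → χ ≠ 1 →
      (∀ x : Unit ⊕ (Fin 2 ⊕ Fin 2) → F, (∀ h : ↥H, (Om5.mat (h : Om5 F)).mulVec x = ((χ h : ℤˣ) : ℤ) • x) → x = 0) →
      ∀ x : W, (∀ h : ↥H, (h : Om5 F) • x = ((χ h : ℤˣ) : ℤ) • x) → x = 0

/-- Statement: if the `7'`-subgroup `H` of `Ω₅(7^m)` fixes no nonzero vector of the natural module, then in every module
with norm zero the vectors fixed by `H` are fixed by every `7'`-subgroup containing `H`. -/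
def NBStmt (F : Type*) [Field F] : Prop :=
  ∀ (W : Type w) [AddCommGroup W] [Finite W] [DistribMulAction (Om5 F) W],
    (∀ x : W, 7 • x = 0) → NormZero 7 (Om5 F) W →
    ∀ (H H' : Subgroup (Om5 F)), H ≤ H' → ¬ 7 ∣ Nat.card ↥H' →
      (∀ x : Unit ⊕ (Fin 2 ⊕ Fin 2) → F, (∀ h ∈ H, (Om5.mat h).mulVec x = x) → x = 0) →
      ∀ x : W, (∀ h ∈ H, h • x = x) → ∀ h ∈ H', h • x = x

end Cfsg.Agent.H214.S69
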