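import Mathlib
import Cfsg.Agent.H366.AlmostSimple

/-!
# The section of a group with a unique composition factor, over the solvable radical (helper214)
-/

set_option autoImplicit false

universe u v

namespace Cfsg.Agent.H214.S69

/-- From `K ≤ H` with `K`, `G/H` solvable and `H/K` simple to the solvable radical. -/
theorem exists_section {G : Type u} [Group G] [Finite G] (K H : Subgroup G) [K.Normal] [H.Normal] (hKH : K ≤ H)
    (hK : Group.IsSolvable ↥K) (hGH : Group.IsSolvable (G ⧸ H)) {L : Type v} [Group L] (hL : IsSimpleGroup L)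
    (hLs : ¬ Group.IsSolvable L) (e : ↥H ⧸ K.subgroupOf H ≃* L) :
    ∃ (R : Subgroup G) (_ : R.Normal) (S : Subgroup (G ⧸ R)) (_ : S.Normal), Group.IsSolvable ↥R ∧
      Subgroup.centralizer (S : Set (G ⧸ R)) = ⊥ ∧ Nonempty (↥S ≃* L) := by
  obtain ⟨R, hR, hRs, hmax⟩ := Cfsg.Agent.H366.AlmostSimple.exists_radical G
  have hmk : Function.Surjective (QuotientGroup.mk' R) := QuotientGroup.mk'_surjective R
  set S : Subgroup (G ⧸ R) := H.map (QuotientGroup.mk' R) with hS
  have hSn : S.Normal := Subgroup.Normal.map inferInstance _ hmk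
  -- `K ≤ R`
  have hKR : K ≤ R := by
    have h1 : (K.map (QuotientGroup.mk' R)).Normal := Subgroup.Normal.map inferInstance _ hmk
    have h2 : Group.IsSolvable ↥(K.map (QuotientGroup.mk' R)) :=
      Group.isSolvable_of_surjective (f := (QuotientGroup.mk' R).subgroupMap K) (MonoidHom.subgroupMap_surjective _ _)
    have h3 := hmax _ h1 h2
    intro x hx
    have h4 : QuotientGroup.mk' R x ∈ K.map (QuotientGroup.mk' R) := ⟨x, hx, rfl⟩
    rw [h3, Subgroup.mem_bot] at h4
    exact (QuotientGroup.eq_one_iff x).1 h4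
  -- `H ∩ R = K`
  have hHR : R.subgroupOf H = K.subgroupOf H := by
    apply le_antisymm _ (Subgroup.comap_mono hKR)
    set φ : ↥H →* L := e.toMonoidHom.comp (QuotientGroup.mk' (K.subgroupOf H)) with hφ
    have hφs : Function.Surjective φ := e.surjective.comp (QuotientGroup.mk'_surjective _)
    have h1 : ((R.subgroupOf H).map φ).Normal := Subgroup.Normal.map inferInstance _ hφs
    have h0 : Group.IsSolvable ↥(R.subgroupOf H) := by
      let f : ↥(R.subgroupOf H) →* ↥R := (H.subtype.comp (R.subgroupOf H).subtype).codRestrict R (fun x => x.2)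
      refine Group.isSolvable_of_isSolvable_injective (f := f) fun x y hxy => ?_
      have h1 : (((x : ↥H)) : G) = ((y : ↥H) : G) := congrArg (fun r : ↥R => (r : G)) hxy
      exact Subtype.ext (Subtype.ext h1)
    have h2 : Group.IsSolvable ↥((R.subgroupOf H).map φ) :=
      Group.isSolvable_of_surjective (f := φ.subgroupMap _) (MonoidHom.subgroupMap_surjective _ _)
    rcases hL.eq_bot_or_eq_top_of_normal _ h1 with h3 | h3
    · intro x hx
      have h4 : φ x ∈ (R.subgroupOf H).map φ := ⟨x, hx, rfl⟩
      rw [h3, Subgroup.mem_bot] at h4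
      have h5 : (QuotientGroup.mk' (K.subgroupOf H)) x = 1 := e.injective (by rw [map_one]; exact h4)
      exact (QuotientGroup.eq_one_iff x).1 h5
    · exfalso
      apply hLs
      rw [h3] at h2
      exact Group.isSolvable_of_surjective (f := (Subgroup.topEquiv (G := L)).toMonoidHom) (Subgroup.topEquiv).surjective
  refine ⟨R, hR, S, hSn, hRs, ?_, ?_⟩
  · -- centralizer
    apply hmax _ inferInstance
    set C := Subgroup.centralizer (S : Set (G ⧸ R)) with hC
    have hle : H ≤ S.comap (QuotientGroup.mk' R) := Subgroup.le_comap_map _ _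
    have hQS : Group.IsSolvable ((G ⧸ R) ⧸ S) := by
      refine Group.isSolvable_of_surjective (f := QuotientGroup.map H S (QuotientGroup.mk' R) hle) ?_
      intro x
      obtain ⟨y, rfl⟩ := QuotientGroup.mk_surjective x
      obtain ⟨z, rfl⟩ := hmk y
      exact ⟨QuotientGroup.mk z, rfl⟩
    let g : ↥C →* (G ⧸ R) ⧸ S := (QuotientGroup.mk' S).comp C.subtype
    have hk : Group.IsSolvable ↥g.ker := by
      refine Group.isSolvable_of_comm fun a b => ?_
      have ha : ((a : ↥C) : G ⧸ R) ∈ S := (QuotientGroup.eq_one_iff _).1 a.2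
      have hb := (b : ↥C).2
      have h1 := Subgroup.mem_centralizer_iff.1 hb _ ha
      exact Subtype.ext (Subtype.ext h1)
    exact Group.isSolvable_of_ker_le_range g.ker.subtype g (by rw [Subgroup.range_subtype])
  · have h1 : ((QuotientGroup.mk' R).subgroupMap H).ker = K.subgroupOf H := by
      rw [← hHR]
      ext x
      rw [MonoidHom.mem_ker, Subgroup.mem_subgroupOf, ← QuotientGroup.eq_one_iff, ← Subtype.coe_inj]
      rfl
    exact ⟨(QuotientGroup.quotientKerEquivOfSurjective _ (MonoidHom.subgroupMap_surjective _ _)).symm.trans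
      ((QuotientGroup.quotientMulEquivOfEq h1).trans e)⟩

end Cfsg.Agent.H214.S69
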