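import Mathlib
import Cfsg.Agent.H214.S69.Defs
import Cfsg.Agent.H811.S69.OOdd
import Cfsg.Agent.H79.S69.SpTwoB
import Cfsg.Agent.H79.S69.EltPlus
import Cfsg.Agent.H951.S69.T6
import Cfsg.Agent.H326.S69.OTwo

/-!
# Outer automorphisms, `PSp₈(q)` and `PΩ₈⁻(q)`, `q` a power of 7 (helper214)
-/

set_option autoImplicit false

universe u v

namespace Cfsg.Agent.H214.S69

open Cfsg Cfsg.Agent.H903.SylSemi

/-- a power of prime order of a nontrivial companion automorphism -/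
theorem exists_prime_companion {F : Type*} [Field F] [Finite F] {V : Type*} [AddCommGroup V] [Module F V]
    {y : Equiv.Perm V} {θ : F ≃+* F} (hy : Semi F y θ) {t : ℕ} (htd : t ∣ orderOf θ) :
    ∃ k : ℕ, Semi F (y ^ k) (θ ^ k) ∧ orderOf (θ ^ k) = t := by
  have hfin : Finite (F ≃+* F) := Finite.of_injective (fun e => (e : F → F)) DFunLike.coe_injective
  have h0 : 0 < orderOf θ := orderOf_pos θ
  obtain ⟨c, hc⟩ := htd
  have hc0 : c ≠ 0 := by rintro rfl; omega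
  refine ⟨c, Cfsg.Agent.H811.S69.semi_pow hy c, ?_⟩
  rw [orderOf_pow' θ hc0, hc, Nat.gcd_mul_left_left]
  exact Nat.mul_div_cancel _ (Nat.pos_of_ne_zero hc0)

theorem finite_ringAut (F : Type*) [Field F] [Finite F] : Finite (F ≃+* F) :=
  Finite.of_injective (fun e => (e : F → F)) DFunLike.coe_injective

theorem sp_all {F : Type} [Field F] [Fintype F] [CharP F 7] {M : Type u} [Group M] [Finite M]
    (hs : Up8 (Fintype.card F) M) (fr : SpFrame F 4 M) (y : ↥fr.H) :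
    ∃ a : Fˣ, IsSpMap F 4 (scal F _ a * y.1) := by
  have hfin := finite_ringAut F
  obtain ⟨θ, τ, hτ, hy, hyf⟩ := fr.semi y.1 y.2
  have hθ : θ = 1 := by
    rw [← orderOf_eq_one_iff]
    by_contra hne
    obtain ⟨t, ht, htd⟩ := Nat.exists_prime_and_dvd hne
    obtain ⟨k, hk, hk'⟩ := exists_prime_companion hy htd
    by_cases ht2 : t = 2
    · subst ht2
      exact Cfsg.Agent.H79.S69.sp_two hs fr (y ^ k) (θ := θ ^ k) hk hk'
    · exact Cfsg.Agent.H811.S69.sp_odd hs fr (y ^ k) (θ := θ ^ k) hk ht ht2 hk'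
  subst hθ
  obtain ⟨c, hc⟩ := Cfsg.Agent.H811.S69.sp_linear hs fr y hy (τ := τ) hyf
  have hc0 : c ≠ 0 := by
    rintro rfl
    exact hτ (by rw [hc, mul_zero])
  refine ⟨(Units.mk0 c hc0)⁻¹, Cfsg.Agent.H811.S69.semi_mul (Cfsg.Agent.H811.S69.semi_scal _) hy, fun u v => ?_⟩
  rw [Equiv.Perm.mul_apply, Equiv.Perm.mul_apply, scal_apply, scal_apply,
    Cfsg.Agent.H79.S69.form_smul_left, Cfsg.Agent.H79.S69.form_smul_right, hyf, hc]
  have e1 : (1 : F ≃+* F) (sympForm 4 F u v) = sympForm 4 F u v := rfl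
  rw [e1]
  push_cast
  rw [Units.val_mk0]
  field_simp

abbrev Q8 (F : Type) [Field F] (a b : F) := quadFormMinus 3 F a b
abbrev M8 (F : Type) [Field F] := Matrix ((Fin 3 ⊕ Fin 3) ⊕ Fin 2) ((Fin 3 ⊕ Fin 3) ⊕ Fin 2) F

/-- linear elements of the frame -/
theorem o_linear {F : Type} [Field F] [Fintype F] [CharP F 7] {M : Type u} [Group M] [Finite M]
    (hs : Up8 (Fintype.card F) M) (ho : Odd (Fintype.card F)) {a b : F} (hab : Aniso a b) (fr : OFrame F (Q8 F a b) M)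
    (y : ↥fr.H) {c : F} (hc0 : c ≠ 0) (hy : Semi F y.1 (RingEquiv.refl F)) (hyf : ∀ v, Q8 F a b (y.1 v) = c * Q8 F a b v) :
    ∃ (A : M8 F) (z : ↥fr.H) (d : Fˣ), (A.det = 1 ∨ A.det = -1) ∧ (∀ v, Q8 F a b (A.mulVec v) = Q8 F a b v) ∧
      (∀ v, z.1 v = A.mulVec v) ∧ z.1 = scal F _ d * y.1 := by
  classical
  -- the matrix of `y`
  let f : (((Fin 3 ⊕ Fin 3) ⊕ Fin 2) → F) →ₗ[F] (((Fin 3 ⊕ Fin 3) ⊕ Fin 2) → F) :=
    { toFun := y.1
      map_add' := hy.1
      map_smul' := fun r v => hy.2 r v }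
  set B : M8 F := LinearMap.toMatrix' f with hB
  have hBv : ∀ v, B.mulVec v = y.1 v := fun v => by rw [hB, LinearMap.toMatrix'_mulVec]; rfl
  have hdet : B.det ^ 2 = c ^ 8 := by
    have h1 := Cfsg.Agent.H811.S69.det_sq_of_sim (Q := Cfsg.Agent.LieClassical.OrthForms.minusForm 3 F a b)
      (Cfsg.Agent.LieClassical.OrthForms.nondeg_minusForm 3 F a b hab) B c (fun v => by
        rw [hBv, Cfsg.Agent.LieClassical.OrthForms.coe_minusForm]
        exact hyf v)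
    simpa using h1
  have hdet' : B.det = c ^ 4 ∨ B.det = -c ^ 4 := by
    have h1 : (B.det - c ^ 4) * (B.det + c ^ 4) = 0 := by linear_combination hdet
    rcases mul_eq_zero.1 h1 with h2 | h2
    · exact Or.inl (sub_eq_zero.1 h2)
    · exact Or.inr (eq_neg_of_add_eq_zero_left h2)
  have hsq : IsSquare c := by
    by_contra hns
    rcases hdet' with h1 | h1
    · exact Cfsg.Agent.H811.S69.o_delta hs hab fr B hns h1 (fun v => by rw [hBv]; exact hyf v) y (fun v => (hBv v).symm)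
    · exact Cfsg.Agent.H79.S69.o_gd hs hab fr B hns h1 (fun v => by rw [hBv]; exact hyf v) y (fun v => (hBv v).symm)
  obtain ⟨r, rfl⟩ := hsq
  have hr0 : r ≠ 0 := fun h => hc0 (by rw [h, mul_zero])
  set d : Fˣ := (Units.mk0 r hr0)⁻¹ with hd
  have hdr : (d : F) * r = 1 := by
    rw [hd, Units.val_inv_eq_inv_val, Units.val_mk0, inv_mul_cancel₀ hr0]
  refine ⟨(d : F) • B, ⟨scal F _ d * y.1, fr.H.mul_mem (fr.scal_mem d) y.2⟩, d, ?_, ?_, ?_, rfl⟩
  · have e1 : ((d : F) • B).det = (d : F) ^ 8 * B.det := by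
      rw [Matrix.det_smul]
      simp
    rw [e1]
    rcases hdet' with h1 | h1
    · left
      rw [h1]
      have : (d : F) ^ 8 * (r * r) ^ 4 = ((d : F) * r) ^ 8 := by ring
      rw [this, hdr, one_pow]
    · right
      rw [h1]
      have : (d : F) ^ 8 * -(r * r) ^ 4 = -((d : F) * r) ^ 8 := by ring
      rw [this, hdr, one_pow]
  · intro v
    have e1 : ((d : F) • B).mulVec v = B.mulVec ((d : F) • v) := by
      rw [Matrix.smul_mulVec, Matrix.mulVec_smul]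
    have e2 : Q8 F a b ((d : F) • v) = (d : F) ^ 2 * Q8 F a b v := by
      simp only [quadFormMinus, Pi.smul_apply, smul_eq_mul, Fin.sum_univ_three]
      ring
    rw [e1, hBv, hyf, e2]
    have : r * r * ((d : F) ^ 2 * Q8 F a b v) = ((d : F) * r) ^ 2 * Q8 F a b v := by ring
    rw [this, hdr, one_pow, one_mul]
  · intro v
    rw [Equiv.Perm.mul_apply, scal_apply, Matrix.smul_mulVec, hBv]

/-- case `K ≠ 1` -/
theorem o_all {F : Type} [Field F] [Fintype F] [CharP F 7] {G : Type u} [Group G] [Finite G]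
    (hs : Up8 (Fintype.card F) G) (hs' : ∀ (K : Subgroup G) [K.Normal], Up8 (Fintype.card F) (G ⧸ K))
    (ho : Odd (Fintype.card F)) (K : Subgroup G) [K.Normal] {a b : F} (hab : Aniso a b)
    (fr : OFrame F (Q8 F a b) (G ⧸ K)) {V : Type v} [AddCommGroup V] [DistribMulAction (G ⧸ K) V] (hV : PMod 7 G K V)
    (y : ↥fr.H) : ∃ a' : Fˣ, IsOmegaMap F (Q8 F a b) (scal F _ a' * y.1) := by
  have hfin := finite_ringAut F
  obtain ⟨θ, c, hc, hy, hyf⟩ := fr.semi y.1 y.2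
  have hθ : θ = 1 := by
    rw [← orderOf_eq_one_iff]
    by_contra hne
    obtain ⟨t, ht, htd⟩ := Nat.exists_prime_and_dvd hne
    obtain ⟨k, hk, hk'⟩ := exists_prime_companion hy htd
    by_cases ht2 : t = 2
    · subst ht2
      obtain ⟨A, z, hd, hA, hz⟩ := Cfsg.Agent.H326.S69.o_two ho hab fr (y ^ k) (θ := θ ^ k) hk hk'
      exact Cfsg.Agent.H951.S69.o_refl hs K hab fr hV A hd hA z hz
    · exact Cfsg.Agent.H811.S69.o_odd (hs' K) hab fr (y ^ k) (θ := θ ^ k) hk ht ht2 hk'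
  subst hθ
  obtain ⟨A, z, d, hd, hA, hz, hzd⟩ := o_linear (hs' K) ho hab fr y hc hy hyf
  rcases hd with hd | hd
  · rcases Cfsg.Agent.H79.S69.so_cases ho hab A hd hA with ⟨s, hsA⟩ | ⟨s, hsA⟩
    · exact ⟨d, s, fun v => by rw [← hzd, hz, hsA]⟩
    · refine ⟨-d, s, fun v => ?_⟩
      rw [hsA, Matrix.neg_mulVec, ← hz, hzd, Equiv.Perm.mul_apply, Equiv.Perm.mul_apply, scal_apply, scal_apply,
        Units.val_neg, neg_smul]
  · exact absurd (Cfsg.Agent.H951.S69.o_refl hs K hab fr hV A hd hA z hz) id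

/-- a 2-power brings everything into `PΩ` -/
theorem o_two_pow {F : Type} [Field F] [Fintype F] [CharP F 7] {M : Type u} [Group M] [Finite M]
    (hs : Up8 (Fintype.card F) M) (ho : Odd (Fintype.card F)) {a b : F} (hab : Aniso a b) (fr : OFrame F (Q8 F a b) M)
    (y : ↥fr.H) : ∃ (k : ℕ) (a' : Fˣ), IsOmegaMap F (Q8 F a b) (scal F _ a' * (y.1) ^ 2 ^ k) := by
  have hfin := finite_ringAut F
  obtain ⟨θ, c, hc, hy, hyf⟩ := fr.semi y.1 y.2
  have h2 : ∃ j : ℕ, orderOf θ = 2 ^ j := by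
    have h1 : ∀ t : ℕ, t.Prime → t ∣ orderOf θ → t = 2 := by
      intro t ht htd
      by_contra ht2
      obtain ⟨k, hk, hk'⟩ := exists_prime_companion hy htd
      exact Cfsg.Agent.H811.S69.o_odd hs hab fr (y ^ k) (θ := θ ^ k) hk ht ht2 hk'
    exact ⟨_, Nat.eq_prime_pow_of_unique_prime_dvd (orderOf_pos θ).ne' fun {d} hd hdd => h1 d hd hdd⟩
  obtain ⟨j, hj⟩ := h2
  set y' : ↥fr.H := y ^ 2 ^ j with hy'
  obtain ⟨θ', c', hc', hyy, hyyf⟩ := fr.semi y'.1 y'.2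
  have hθ' : θ' = 1 := by
    have h1 : Semi F y'.1 (θ ^ 2 ^ j) := Cfsg.Agent.H811.S69.semi_pow hy _
    rw [Cfsg.Agent.H811.S69.semi_unique hyy h1, ← hj, pow_orderOf_eq_one]
  subst hθ'
  obtain ⟨A, z, d, hd, hA, hz, hzd⟩ := o_linear hs ho hab fr y' hc' hyy hyyf
  have hd2 : (A * A).det = 1 := by
    rw [Matrix.det_mul]
    rcases hd with hd | hd <;> rw [hd] <;> ring
  have hA2 : ∀ v, Q8 F a b ((A * A).mulVec v) = Q8 F a b v := fun v => by
    rw [← Matrix.mulVec_mulVec, hA, hA]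
  have hz2 : ∀ v, (scal F (((Fin 3 ⊕ Fin 3) ⊕ Fin 2) → F) (d * d) * (y.1) ^ 2 ^ (j + 1)) v = (A * A).mulVec v := by
    intro v
    have e1 : ∀ w, A.mulVec w = (d : F) • y'.1 w := fun w => by rw [← hz, hzd]; rfl
    have e2 : (y.1) ^ 2 ^ (j + 1) = y'.1 * y'.1 := by
      rw [hy', pow_succ, pow_mul, pow_two]
      rfl
    rw [← Matrix.mulVec_mulVec, e1, e1, hyy.2, e2]
    rw [Equiv.Perm.mul_apply, Equiv.Perm.mul_apply, scal_apply, Units.val_mul, mul_smul]
    rfl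
  rcases Cfsg.Agent.H79.S69.so_cases ho hab (A * A) hd2 hA2 with ⟨s, hsA⟩ | ⟨s, hsA⟩
  · exact ⟨j + 1, d * d, s, fun v => by rw [hz2, hsA]⟩
  · refine ⟨j + 1, -(d * d), s, fun v => ?_⟩
    rw [hsA, Matrix.neg_mulVec, ← hz2, Equiv.Perm.mul_apply, Equiv.Perm.mul_apply, scal_apply, scal_apply,
      Units.val_neg, neg_smul]

end Cfsg.Agent.H214.S69
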