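import Mathlib
import Cfsg.Agent.H214.S69.SpFinal
import Cfsg.Agent.H214.S69.Frame
import Cfsg.Agent.H214.Coef.Final
import Cfsg.Agent.H973.Frames.Main
import Cfsg.Agent.H679.PModT
import Cfsg.Agent.H855.SpecE.NoNE
import Cfsg.Agent.H855.SpecE.Num
import Cfsg.Agent.H269.S69.SpCase
import Cfsg.Agent.H35.KerSeven
import Cfsg.Agent.H807.S69.Emb
import Cfsg.Agent.H202.T.Low
import Cfsg.Agent.H202.T.UpSp
import Cfsg.Agent.H436.CompOne
import Cfsg.Agent.S0270
import Cfsg.Agent.S0297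

/-!
# Assembly of S3469 (helper214)
-/

set_option autoImplicit false

universe u v

namespace Cfsg.Agent.H214.S69

open Cfsg Cfsg.Agent.H903.SylSemi

/-- the remaining statement for `PΩ₈⁻(q)` -/
def InnerStmt : Prop :=
  ∀ {F : Type} [Field F] [Fintype F] [CharP F 7] {G : Type u} [Group G] [Finite G],
    Spec8 (Fintype.card F) G → NAStmt.{u} F → NBStmt.{u} F → ∀ (K : Subgroup G) [K.Normal], IsPGroup 7 ↥K →
      ∀ {a b : F}, Aniso a b → ((G ⧸ K) ≃* POmega F (Q8 F a b)) → False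

def SevenStmt : Prop :=
  ∀ {F : Type} [Field F] [Fintype F] [CharP F 7] {a b : F}, Aniso a b → ∃ r : ℕ, r.Prime ∧ r ≠ 2 ∧ r ≠ 7 ∧
    (r ∣ Fintype.card F ^ 3 - 1 ∨ r ∣ Fintype.card F ^ 3 + 1) ∧
      ∀ x : POmega F (quadFormMinus 3 F a b), ¬ 7 * r ∣ orderOf x

theorem odd_card {F : Type*} [Field F] [Fintype F] [CharP F 7] : Odd (Fintype.card F) := by
  have : Fact (Nat.Prime 7) := ⟨by norm_num⟩
  obtain ⟨n, -, hn⟩ := FiniteField.card F 7
  rw [hn]
  exact Odd.pow (by decide)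

/-- the field with `q⁴` elements -/
theorem exists_ext {F : Type} [Field F] [Fintype F] [CharP F 7] : ∃ (E : Type) (_ : Field E) (_ : Fintype E) (_ : CharP E 7),
    Fintype.card E = Fintype.card F ^ 4 := by
  have : Fact (Nat.Prime 7) := ⟨by norm_num⟩
  obtain ⟨n, -, hn⟩ := FiniteField.card F 7
  let _ : Fintype (GaloisField 7 ((n : ℕ) * 4)) := Fintype.ofFinite _
  refine ⟨GaloisField 7 ((n : ℕ) * 4), inferInstance, inferInstance, inferInstance, ?_⟩
  rw [← Nat.card_eq_fintype_card, GaloisField.card 7 _ (by have := n.pos; omega), hn, pow_mul]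

/-- a full subgroup -/
theorem iso_of_top {G L : Type*} [Group G] [Group L] {S : Subgroup G} (h : ∀ x, x ∈ S) (e : ↥S ≃* L) :
    Nonempty (G ≃* L) := by
  have h1 : S = ⊤ := by ext x; simp [h x]
  subst h1
  exact ⟨Subgroup.topEquiv.symm.trans e⟩

theorem not_solvable_of {L : Type*} [Group L] [Finite L] (hL : IsSimpleGroup L) {x y : L} (hx : 1 < orderOf x)
    (hy : 1 < orderOf y) (hxy : orderOf x ≠ orderOf y) : ¬ Group.IsSolvable L := by
  intro hs
  have hc := IsSimpleGroup.comm_iff_isSolvable.2 hs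
  let _ : CommGroup L := { ‹Group L› with mul_comm := hc }
  have hp : (Nat.card L).Prime := IsSimpleGroup.prime_card
  have h1 := (Nat.dvd_prime hp).1 (orderOf_dvd_natCard x)
  have h2 := (Nat.dvd_prime hp).1 (orderOf_dvd_natCard y)
  omega

/-- data from the subgroup `PSL₂(q⁴)` -/
theorem psl_data {q : ℕ} (hq : 7 ≤ q) (hqo : Odd q) {E : Type} [Field E] [Fintype E] (hE : Fintype.card E = q ^ 4)
    {L : Type*} [Group L] [Finite L] (hL : IsSimpleGroup L) (f : Matrix.ProjectiveSpecialLinearGroup (Fin 2) E →* L)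
    (hf : Function.Injective f) : (∃ x : L, orderOf x = H202.T.mm q) ∧ ¬ Group.IsSolvable L := by
  have h7 : 7 ^ 4 ≤ q ^ 4 := Nat.pow_le_pow_left hq 4
  obtain ⟨k, hk⟩ := hqo.pow (n := 4)
  have hg : Nat.gcd 2 (Fintype.card E - 1) = 2 := Nat.gcd_eq_left (by rw [hE]; omega)
  obtain ⟨x, hx⟩ := Cfsg.Agent.H436.CompOne.exists_add E
  obtain ⟨y, hy⟩ := Cfsg.Agent.H436.CompOne.exists_sub E (by
    simp only [Finset.mem_insert, Finset.mem_singleton]
    omega)
  rw [hg, hE] at hx hy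
  have hx' : orderOf (f x) = (q ^ 4 + 1) / 2 := by rw [orderOf_injective f hf, hx]
  have hy' : orderOf (f y) = (q ^ 4 - 1) / 2 := by rw [orderOf_injective f hf, hy]
  exact ⟨⟨f x, hx'⟩, not_solvable_of hL (x := f x) (y := f y) (by omega) (by omega) (by omega)⟩

theorem main (hI : InnerStmt.{u}) (h7 : SevenStmt) {G : Type u} [Group G] [Finite G] {F : Type} [Field F] [Fintype F]
    [CharP F 7] (hspec : Spec8 (Fintype.card F) G) (K H : Subgroup G) [K.Normal] [H.Normal] (hKH : K ≤ H)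
    (hK : Group.IsSolvable ↥K) (hGH : Group.IsSolvable (G ⧸ H))
    (hcase : Nonempty (↥H ⧸ K.subgroupOf H ≃* PSp 4 F) ∨
      ∃ a b : F, Aniso a b ∧ Nonempty (↥H ⧸ K.subgroupOf H ≃* POmega F (quadFormMinus 3 F a b))) :
    Nonempty (G ≃* PSp 4 F) := by
  have ho : Odd (Fintype.card F) := odd_card
  have hq7 : 7 ≤ Fintype.card F := Cfsg.Agent.H855.SpecE.seven_le hspec.pow
  obtain ⟨E, _, _, _, hE⟩ := exists_ext (F := F)
  rcases hcase with ⟨⟨e⟩⟩ | ⟨a, b, hab, ⟨e⟩⟩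
  · -- `PSp₈(q)`
    have hsim : IsSimpleGroup (PSp 4 F) := Cfsg.Agent.S0270.result 4 (by norm_num) (by norm_num)
    obtain ⟨f, hf⟩ := Cfsg.Agent.H807.S69.psl_to_psp ho hE
    obtain ⟨⟨x, hx⟩, hns⟩ := psl_data hq7 ho hE hsim f hf
    obtain ⟨R, hR, S, hS, hRs, hC, ⟨e'⟩⟩ := exists_section K H hKH hK hGH hsim hns e
    have hSs : IsSimpleGroup ↥S := e'.isSimpleGroup
    have hR7 : IsPGroup 7 ↥R := Cfsg.Agent.H35.KerSeven.kernel_seven hspec.toUp8 R hRs S hSs
      ⟨e'.symm x, by rw [MulEquiv.orderOf_eq, hx]⟩ hE (e'.symm.toMonoidHom.comp f) (e'.symm.injective.comp hf)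
    obtain ⟨fr, hfr⟩ := Cfsg.Agent.H973.Frames.exists_spFrame ho (by norm_num) S hC e'
    by_cases hbot : R = ⊥
    · subst hbot
      have hup : Up8 (Fintype.card F) (G ⧸ (⊥ : Subgroup G)) := Cfsg.Agent.H855.SpecE.Up8.quotient hspec.toUp8 ⊥
      have htop : ∀ x, x ∈ S := by
        intro x
        obtain ⟨y, rfl⟩ := fr.surj x
        exact (hfr y).2 (sp_all hup fr y)
      obtain ⟨e2⟩ := iso_of_top htop e'
      exact ⟨(QuotientGroup.quotientBot (G := G)).symm.trans e2⟩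
    · exfalso
      obtain ⟨V, _, _, hV⟩ := Cfsg.Agent.H679.PModT.exists_pmod (by norm_num) R hR7 hbot
      exact Cfsg.Agent.H269.S69.sp_case hspec.toUp8 Cfsg.Agent.H214.Coef.ncstmt R fr hV
  · -- `PΩ₈⁻(q)`
    exfalso
    have hsim : IsSimpleGroup (POmega F (quadFormMinus 3 F a b)) := Cfsg.Agent.S0297.result 4 (by norm_num) a b hab
    obtain ⟨f, hf⟩ := Cfsg.Agent.H807.S69.psl_to_ominus ho hE hab
    obtain ⟨⟨x, hx⟩, hns⟩ := psl_data hq7 ho hE hsim f hf
    obtain ⟨R, hR, S, hS, hRs, hC, ⟨e'⟩⟩ := exists_section K H hKH hK hGH hsim hns e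
    have hSs : IsSimpleGroup ↥S := e'.isSimpleGroup
    have hR7 : IsPGroup 7 ↥R := Cfsg.Agent.H35.KerSeven.kernel_seven hspec.toUp8 R hRs S hSs
      ⟨e'.symm x, by rw [MulEquiv.orderOf_eq, hx]⟩ hE (e'.symm.toMonoidHom.comp f) (e'.symm.injective.comp hf)
    obtain ⟨fr, hfr⟩ := Cfsg.Agent.H973.Frames.exists_oFrame (by norm_num) hab S hC e'
    have hup : Up8 (Fintype.card F) (G ⧸ R) := Cfsg.Agent.H855.SpecE.Up8.quotient hspec.toUp8 R
    by_cases hbot : R = ⊥
    · subst hbot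
      obtain ⟨r, hr, hr2, hr7, hrq, hno⟩ := h7 (F := F) hab
      -- an element of order divisible by `7 r`
      obtain ⟨g, hg⟩ : ∃ g : G, 7 * r ∣ orderOf g := by
        rcases hrq with h | h
        · obtain ⟨g, hg⟩ := hspec.mem_minus
          exact ⟨g, by rw [hg]; exact Nat.mul_dvd_mul_left 7 h⟩
        · obtain ⟨g, hg⟩ := hspec.mem_plus
          exact ⟨g, by rw [hg]; exact Nat.mul_dvd_mul_left 7 h⟩
      set z : G ⧸ (⊥ : Subgroup G) := (QuotientGroup.quotientBot (G := G)).symm g with hz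
      have hzo : 7 * r ∣ orderOf z := by rw [hz, MulEquiv.orderOf_eq]; exact hg
      obtain ⟨y, hy⟩ := fr.surj z
      obtain ⟨k, a', hk⟩ := o_two_pow hup ho hab fr y
      have hzS : z ^ 2 ^ k ∈ S := by
        rw [← hy, ← map_pow]
        exact (hfr (y ^ 2 ^ k)).2 ⟨a', hk⟩
      have hcop : Nat.Coprime (7 * r) (2 ^ k) := by
        apply Nat.Coprime.pow_right
        rw [Nat.coprime_mul_iff_left]
        exact ⟨by norm_num, (Nat.coprime_primes hr Nat.prime_two).2 hr2⟩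
      have hord : 7 * r ∣ orderOf (z ^ 2 ^ k) := by
        rw [orderOf_pow]
        have h1 : Nat.gcd (orderOf z) (2 ^ k) ∣ 2 ^ k := Nat.gcd_dvd_right _ _
        have h2 : orderOf z = orderOf z / Nat.gcd (orderOf z) (2 ^ k) * Nat.gcd (orderOf z) (2 ^ k) :=
          (Nat.div_mul_cancel (Nat.gcd_dvd_left _ _)).symm
        rw [h2] at hzo
        exact (Nat.Coprime.coprime_dvd_right h1 hcop).dvd_of_dvd_mul_right hzo
      refine hno (e' ⟨_, hzS⟩) ?_
      rw [MulEquiv.orderOf_eq, Subgroup.orderOf_mk]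
      exact hord
    · obtain ⟨V, _, _, hV⟩ := Cfsg.Agent.H679.PModT.exists_pmod (by norm_num) R hR7 hbot
      have htop : ∀ x, x ∈ S := by
        intro x
        obtain ⟨y, rfl⟩ := fr.surj x
        exact (hfr y).2 (o_all hspec.toUp8 (fun K _ => Cfsg.Agent.H855.SpecE.Up8.quotient hspec.toUp8 K) ho R hab fr hV y)
      obtain ⟨e2⟩ := iso_of_top htop e'
      exact hI hspec Cfsg.Agent.H214.Coef.nastmt Cfsg.Agent.H214.Coef.nbstmt R hR7 hab e2

end Cfsg.Agent.H214.S69
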