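import Mathlib
import Cfsg.Agent.H273.S69.Main
import Cfsg.Agent.H214.S69.Main

/-!
# `PΩ₈⁻(q)`, `q` a power of 7: a prime `r ∣ q³ - ε` which is not adjacent to 7 (helper214; structure of the elements of
order `r` by helper273)
-/

set_option autoImplicit false

universe u v

namespace Cfsg.Agent.H214.S69

open Cfsg Cfsg.Agent.H273.S69
open Cfsg.Agent.LieClassical.OrthFinite (isometryHom isometryHom_injective)
open Cfsg.Agent.LieClassical.OrthCore (O)

theorem no_seven : SevenStmt := by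
  intro F _ _ _ a b hab
  classical
  have ho : Odd (Fintype.card F) := odd_card
  have hfact : Fact (Nat.Prime 7) := ⟨by norm_num⟩
  have hq7 : 7 ∣ Fintype.card F := by
    obtain ⟨n, -, hn⟩ := FiniteField.card F 7
    rw [hn]
    exact dvd_pow_self 7 n.2.ne'
  have hq0 : 0 < Fintype.card F := Fintype.card_pos
  have hq3 : 1 ≤ Fintype.card F ^ 3 := Nat.one_le_pow _ _ hq0
  set Q := Q8' F a b with hQ
  have S : Space Q := space ho hab
  obtain ⟨ε, n, hN, hn⟩ : ∃ (ε : ℤ) (n : ℕ), NData (Fintype.card F) n ε ∧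
      (n = Fintype.card F ^ 3 - 1 ∨ n = Fintype.card F ^ 3 + 1) := by
    have h4 : Fintype.card F % 4 = 1 ∨ Fintype.card F % 4 = 3 := by
      obtain ⟨k, hk⟩ := ho
      omega
    rcases h4 with h4 | h4
    · exact ⟨1, _, ⟨Or.inl rfl, hq7, hq0, by omega, by push_cast [hq3]; ring⟩, Or.inl rfl⟩
    · exact ⟨-1, _, ⟨Or.inr rfl, hq7, hq0, by omega, by push_cast; ring⟩, Or.inr rfl⟩
  obtain ⟨r, hr, hro, hrn, hrq, hrm, h3⟩ := hN.exists_prime
  have hr2 : r ≠ 2 := by
    rintro rfl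
    exact absurd hro (by decide)
  have hr7 : r ≠ 7 := by
    rintro rfl
    exact hrq hq7
  have hrn' : r ∣ Fintype.card F ^ 3 - 1 ∨ r ∣ Fintype.card F ^ 3 + 1 := by
    rcases hn with h | h
    · rw [h] at hrn; exact Or.inl hrn
    · rw [h] at hrn; exact Or.inr hrn
  refine ⟨r, hr, hr2, hr7, hrn', ?_⟩
  intro x hx
  obtain ⟨g, rfl⟩ := QuotientGroup.mk_surjective x
  have hfin : Finite (Cfsg.isometryGroup F ⇑Q) := Subtype.finite
  let y : Cfsg.isometryGroup F ⇑Q := (g : ↥(Cfsg.isometryGroup F (quadFormMinus 3 F a b)))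
  set m := orderOf y with hm
  have hdvd : 7 * r ∣ m := by
    refine hx.trans ?_
    have h1 : orderOf (QuotientGroup.mk g : POmega F (quadFormMinus 3 F a b)) ∣ orderOf g :=
      orderOf_map_dvd (QuotientGroup.mk' _) g
    refine h1.trans ?_
    rw [hm]
    exact (Subgroup.orderOf_coe g).symm ▸ dvd_rfl
  have hm0 : 0 < m := orderOf_pos y
  have hrd : r ∣ m := (Dvd.intro_left 7 rfl).trans hdvd
  have h7d : 7 ∣ m := (Dvd.intro r rfl).trans hdvd
  have hne : ∀ t : ℕ, t.Prime → t ∣ m → y ^ (m / t) ≠ 1 := by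
    intro t ht htm h1
    rw [← orderOf_dvd_iff_pow_eq_one] at h1
    have h5 := Nat.le_of_dvd (Nat.div_pos (Nat.le_of_dvd hm0 htm) ht.pos) h1
    exact absurd (Nat.div_lt_self hm0 ht.one_lt) (not_lt.2 h5)
  have hcast : (r : F) ≠ 0 := by
    intro h0
    have h1 := (CharP.cast_eq_zero_iff F 7 r).1 h0
    exact hr7 ((Nat.prime_dvd_prime_iff_eq (by norm_num) hr).1 h1).symm
  have hinj := isometryHom_injective Q
  have hS : SData Q (isometryHom Q (y ^ (m / r))) r := by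
    refine ⟨S.h2, nondeg_of S.nd, ?_, hom_mem_O _, hr, hro, hcast, ?_, ?_, ?_⟩
    · rw [Module.finrank_fintype_fun_eq_card]
      exact S.dim
    · rw [← map_pow, ← pow_mul, Nat.div_mul_cancel hrd, hm, pow_orderOf_eq_one, map_one]
    · intro h1
      exact hne r hr hrd (hinj (h1.trans (map_one _).symm))
    · intro d hd
      rw [Nat.card_eq_fintype_card] at hd
      exact h3 d hd
  have h1 : isometryHom Q (y ^ (m / 7)) = 1 := by
    apply hS.eq_one_of_commute (p := 7) (k := 1) (hom_mem_O _)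
    · rw [← map_pow, ← pow_mul, pow_one, Nat.div_mul_cancel h7d, hm, pow_orderOf_eq_one, map_one]
    · rw [← map_mul, ← map_mul, ← pow_add, ← pow_add, add_comm]
  exact hne 7 (by norm_num) h7d (hinj (h1.trans (map_one _).symm))

theorem inner : InnerStmt.{u} := by
  intro F _ _ _ G _ _ hs hNA hNB K _ hK a b hab e
  exact Cfsg.Agent.H273.S69.o_inner hs hNA hNB K hK hab e

/-- S3469 from S3537 -/
theorem final {G : Type u} [Group G] [Finite G] {F : Type} [Field F] [Fintype F] [CharP F 7]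
    (h : Set.range (orderOf : G → ℕ) = Set.range (orderOf : PSp 4 F → ℕ))
    (h37 : ∃ (K H : Subgroup G) (_ : K.Normal) (_ : H.Normal), K ≤ H ∧ Group.IsSolvable ↥K ∧ Group.IsSolvable (G ⧸ H) ∧
      (Nonempty (↥H ⧸ K.subgroupOf H ≃* PSp 4 F) ∨
        ∃ a b : F, (∀ z₁ z₂ : F, z₁ ^ 2 + a * z₁ * z₂ + b * z₂ ^ 2 = 0 → z₁ = 0 ∧ z₂ = 0) ∧
          Nonempty (↥H ⧸ K.subgroupOf H ≃* Cfsg.POmega F (Cfsg.quadFormMinus 3 F a b)))) :
    Nonempty (G ≃* PSp 4 F) := by
  have hfact : Fact (Nat.Prime 7) := ⟨by norm_num⟩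
  have ho : Odd (Fintype.card F) := odd_card
  obtain ⟨K, H, _, _, hKH, hK, hGH, hcase⟩ := h37
  exact main inner no_seven (Cfsg.Agent.H855.SpecE.Spec8.of_range (Cfsg.Agent.H202.T.up_sp ho)
    (Cfsg.Agent.H202.T.sp_sub ho 7) (Cfsg.Agent.H202.T.sp_add ho 7) h) K H hKH hK hGH hcase

end Cfsg.Agent.H214.S69
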